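import Groth.Prelude.Def_W4stk3formalspacesTaut
import Mathlib.Topology.Algebra.IsUniformGroup.Basic
import Mathlib.Topology.Algebra.UniformRing
import Mathlib.RingTheory.Jacobson.Ideal

/-!
# Linearly topologized rings: basic facts
-/

namespace Groth.Agent.AdicTop

open Filter Topology

universe u v

/-- Limits of sequences with small increments in a complete group. -/
theorem exists_limit_of_step {G : Type*} [AddCommGroup G] [UniformSpace G] [IsUniformAddGroup G]
    [CompleteSpace G] (K : ℕ → AddSubgroup G) (hanti : Antitone K)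
    (hclosed : ∀ k, IsClosed (K k : Set G))
    (hsmall : ∀ U ∈ 𝓝 (0 : G), ∃ k, (K k : Set G) ⊆ U)
    (s : ℕ → G) (hs : ∀ k, s (k + 1) - s k ∈ K k) : ∃ L, ∀ k, L - s k ∈ K k := by
  have hsk : ∀ k n, k ≤ n → s n - s k ∈ K k := by
    intro k n hkn
    induction n, hkn using Nat.le_induction with
    | base => simp [zero_mem]
    | succ n hkn ih =>
      rw [← sub_add_sub_cancel (s (n + 1)) (s n) (s k)]
      exact add_mem (hanti hkn (hs n)) ih
  have hc : CauchySeq s := by
    rw [cauchySeq_iff]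
    intro V hV
    rw [uniformity_eq_comap_nhds_zero, Filter.mem_comap] at hV
    obtain ⟨U, hU, hUV⟩ := hV
    obtain ⟨k, hk⟩ := hsmall U hU
    refine ⟨k, fun i hi j hj => hUV (hk ?_)⟩
    show s j - s i ∈ K k
    rw [← sub_sub_sub_cancel_right (s j) (s i) (s k)]
    exact sub_mem (hsk k j hj) (hsk k i hi)
  obtain ⟨L, hL⟩ := cauchySeq_tendsto_of_complete hc
  refine ⟨L, fun k => (hclosed k).mem_of_tendsto (hL.sub_const (s k)) ?_⟩
  exact eventually_atTop.2 ⟨k, fun n hn => hsk k n hn⟩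

/-- Closure of a subgroup when open subgroups form a basis of neighbourhoods of zero. -/
theorem mem_closure_iff_forall_sub_mem {G : Type*} [AddCommGroup G] [TopologicalSpace G]
    [IsTopologicalAddGroup G] {ι : Type*} {p : ι → Prop} {s : ι → Set G}
    (hb : (𝓝 (0 : G)).HasBasis p s) (N : AddSubgroup G) (x : G) :
    x ∈ closure (N : Set G) ↔ ∀ i, p i → ∃ n ∈ N, x - n ∈ s i := by
  have hb' : (𝓝 x).HasBasis p fun i => (fun y => x - y) ⁻¹' s i := by
    have h : map (fun y : G => x - y) (𝓝 x) = 𝓝 0 := by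
      have := (Homeomorph.subLeft x).map_nhds_eq x
      simpa using this
    have h2 : 𝓝 x = comap (fun y : G => x - y) (𝓝 0) := by
      rw [← h, comap_map (sub_right_injective)]
    rw [h2]
    exact hb.comap _
  rw [mem_closure_iff_nhds_basis' hb']
  constructor
  · intro h i hi
    obtain ⟨n, hn, hnN⟩ := h i hi
    exact ⟨n, hnN, hn⟩
  · intro h i hi
    obtain ⟨n, hn, hns⟩ := h i hi
    exact ⟨n, hns, hn⟩

variable {A : Type u} [CommRing A] [TopologicalSpace A] [IsTopologicalRing A]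

theorem isClosed_of_isOpen_ideal {I : Ideal A} (h : IsOpen (I : Set A)) : IsClosed (I : Set A) :=
  AddSubgroup.isClosed_of_isOpen I.toAddSubgroup h

theorem isOpen_of_le {I J : Ideal A} (hle : I ≤ J) (h : IsOpen (I : Set A)) :
    IsOpen (J : Set A) :=
  AddSubgroup.isOpen_mono (H₁ := I.toAddSubgroup) (H₂ := J.toAddSubgroup) hle h

theorem isOpen_inf {I J : Ideal A} (hI : IsOpen (I : Set A)) (hJ : IsOpen (J : Set A)) :
    IsOpen ((I ⊓ J : Ideal A) : Set A) := hI.inter hJ

theorem mem_nhds_of_isOpen {I : Ideal A} (h : IsOpen (I : Set A)) : (I : Set A) ∈ 𝓝 (0 : A) :=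
  h.mem_nhds I.zero_mem

theorem exists_open_ideal_subset [IsLinearTopology A A] {U : Set A} (hU : U ∈ 𝓝 (0 : A)) :
    ∃ I : Ideal A, IsOpen (I : Set A) ∧ (I : Set A) ⊆ U := by
  obtain ⟨I, hI, hIU⟩ := (IsLinearTopology.hasBasis_open_ideal (R := A)).mem_iff.1 hU
  exact ⟨I, hI, hIU⟩

/-- The closure of an ideal is the intersection of its sums with open ideals. -/
theorem mem_closure_iff [IsLinearTopology A A] (I : Ideal A) (x : A) :
    x ∈ I.closure ↔ ∀ V : Ideal A, IsOpen (V : Set A) → x ∈ I ⊔ V := by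
  rw [← SetLike.mem_coe, Ideal.coe_closure]
  rw [show (I : Set A) = (I.toAddSubgroup : Set A) from rfl,
    mem_closure_iff_forall_sub_mem (IsLinearTopology.hasBasis_open_ideal (R := A))]
  constructor
  · intro h V hV
    obtain ⟨n, hn, hxn⟩ := h V hV
    exact Submodule.mem_sup.2 ⟨n, hn, x - n, hxn, by abel⟩
  · intro h V hV
    obtain ⟨n, hn, v, hv, rfl⟩ := Submodule.mem_sup.1 (h V hV)
    exact ⟨n, hn, by simpa using hv⟩

theorem le_closure (I : Ideal A) : I ≤ I.closure := fun _ hx => subset_closure hx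

theorem closure_mono {I J : Ideal A} (h : I ≤ J) : I.closure ≤ J.closure :=
  fun _ hx => _root_.closure_mono h hx

theorem closure_le_of_isClosed {I J : Ideal A} (hJ : IsClosed (J : Set A)) (h : I ≤ J) :
    I.closure ≤ J := fun _ hx => closure_minimal h hJ hx

theorem closure_le_of_isOpen {I J : Ideal A} (hJ : IsOpen (J : Set A)) (h : I ≤ J) :
    I.closure ≤ J := closure_le_of_isClosed (isClosed_of_isOpen_ideal hJ) h

theorem closure_mul_le (I J : Ideal A) : I.closure * J.closure ≤ (I * J).closure :=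
  Ideal.mul_le.2 fun _ hx _ hy =>
    map_mem_closure₂ continuous_mul hx hy fun _ ha _ hb => Ideal.mul_mem_mul ha hb

theorem closure_pow_le (I : Ideal A) (n : ℕ) : I.closure ^ n ≤ (I ^ n).closure := by
  induction n with
  | zero => simpa using le_closure (⊤ : Ideal A)
  | succ n ih =>
    rw [pow_succ, pow_succ]
    exact (Ideal.mul_mono_left ih).trans (closure_mul_le _ _)

theorem map_closure_le {B : Type v} [CommRing B] [TopologicalSpace B] [IsTopologicalRing B]
    (φ : A →+* B) (hφ : Continuous φ) (I : Ideal A) :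
    I.closure.map φ ≤ (I.map φ).closure :=
  Ideal.map_le_iff_le_comap.2 fun _ hx =>
    map_mem_closure hφ hx fun _ ha => Ideal.mem_map_of_mem φ ha

section IdealOfDefinition

open LinTop

theorem isTopologicallyNilpotent_of_pow_tendsto {I : Ideal A} {x : A} {k : ℕ}
    (hI : ∀ U ∈ 𝓝 (0 : A), ∃ n : ℕ, ((I ^ n : Ideal A) : Set A) ⊆ U) (hx : x ^ k ∈ I) :
    IsTopologicallyNilpotent x := by
  refine tendsto_atTop'.2 fun U hU => ?_
  obtain ⟨n, hn⟩ := hI U hU
  refine ⟨k * n, fun m hm => hn ?_⟩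
  obtain ⟨d, rfl⟩ := Nat.le.dest hm
  rw [pow_add, pow_mul]
  exact Ideal.mul_mem_right _ _ (Ideal.pow_mem_pow hx n)

theorem isTopologicallyNilpotent_of_mem {I : Ideal A} (hI : IsIdealOfDefinition A I) {x : A}
    (hx : x ∈ I) : IsTopologicallyNilpotent x :=
  isTopologicallyNilpotent_of_pow_tendsto (k := 1)
    (fun U hU => let ⟨n, _, hn⟩ := hI.2 U hU; ⟨n, hn⟩) (by rwa [pow_one])

theorem isWeakIdealOfDefinition_of_isIdealOfDefinition {I : Ideal A} (hI : IsIdealOfDefinition A I) :
    IsWeakIdealOfDefinition A I :=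
  ⟨hI.1, fun _ hf => isTopologicallyNilpotent_of_mem hI hf⟩

theorem exists_pow_mem_of_isOpen {x : A} (hx : IsTopologicallyNilpotent x) {V : Ideal A}
    (hV : IsOpen (V : Set A)) : ∃ n : ℕ, x ^ n ∈ V :=
  hx.exists_pow_mem_of_mem_nhds (mem_nhds_of_isOpen hV)

/-- Elements congruent to topologically nilpotent ones modulo every open ideal. -/
theorem isClosed_topologicalNilradical [IsLinearTopology A A] :
    IsClosed ((topologicalNilradical A : Ideal A) : Set A) := by
  refine isClosed_of_closure_subset fun x hx => ?_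
  refine (tendsto_atTop'.2 fun U hU => ?_ : IsTopologicallyNilpotent x)
  obtain ⟨V, hV, hVU⟩ := exists_open_ideal_subset hU
  obtain ⟨a, ha, v, hv, rfl⟩ := Submodule.mem_sup.1 ((mem_closure_iff _ x).1 hx V hV)
  obtain ⟨k, hk⟩ := exists_pow_mem_of_isOpen ha hV
  refine ⟨k, fun m hm => hVU ?_⟩
  rw [SetLike.mem_coe, ← Ideal.Quotient.eq_zero_iff_mem, map_pow, map_add,
    Ideal.Quotient.eq_zero_iff_mem.2 hv, add_zero, ← map_pow, Ideal.Quotient.eq_zero_iff_mem]
  exact V.pow_mem_of_pow_mem hk hm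

theorem closure_le_topologicalNilradical [IsLinearTopology A A] {I : Ideal A}
    (hI : I ≤ topologicalNilradical A) : I.closure ≤ topologicalNilradical A :=
  closure_le_of_isClosed isClosed_topologicalNilradical hI

theorem sup_pow_le (I J : Ideal A) (n : ℕ) : (I ⊔ J) ^ n ≤ I ⊔ J ^ n := by
  induction n with
  | zero => simp
  | succ n ih =>
    rw [pow_succ, pow_succ]
    refine (Ideal.mul_mono_left ih).trans ?_
    rw [Ideal.sup_mul, Ideal.mul_sup, Ideal.mul_sup]
    exact sup_le (le_sup_of_le_left (sup_le Ideal.mul_le_left Ideal.mul_le_left))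
      (sup_le (le_sup_of_le_left Ideal.mul_le_right) le_sup_right)

theorem isIdealOfDefinition_of_pow_le {I J : Ideal A} (hI : IsIdealOfDefinition A I)
    (hopen : IsOpen (J : Set A)) {n : ℕ} (hn : 0 < n) (hle : J ^ n ≤ I) :
    IsIdealOfDefinition A J := by
  refine ⟨hopen, fun U hU => ?_⟩
  obtain ⟨m, hm, hmU⟩ := hI.2 U hU
  refine ⟨n * m, Nat.mul_pos hn hm, fun x hx => hmU ?_⟩
  rw [pow_mul] at hx
  exact Ideal.pow_right_mono hle m hx

theorem isAdic_of_isIdealOfDefinition {J I : Ideal A} (hJ : IsAdic J)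
    (hI : IsIdealOfDefinition A I) : IsAdic I := by
  obtain ⟨hJo, hJb⟩ := isAdic_iff.1 hJ
  refine isAdic_iff.2 ⟨fun n => ?_, fun s hs => let ⟨n, _, hn⟩ := hI.2 s hs; ⟨n, hn⟩⟩
  obtain ⟨k, hk⟩ := hJb _ (mem_nhds_of_isOpen hI.1)
  refine isOpen_of_le (I := J ^ (k * n)) ?_ (hJo _)
  rw [pow_mul]
  exact Ideal.pow_right_mono hk n

theorem isLinearTopology_of_isPreadic (hA : IsPreadic A) : IsLinearTopology A A := by
  obtain ⟨I, hI⟩ := hA
  have := I.isLinearTopology
  unfold IsAdic at hI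
  subst hI
  exact this

theorem isIdealOfDefinition_of_isAdic {I : Ideal A} (hI : IsAdic I) :
    IsIdealOfDefinition A I := by
  obtain ⟨ho, hb⟩ := isAdic_iff.1 hI
  refine ⟨by simpa using ho 1, fun U hU => ?_⟩
  obtain ⟨n, hn⟩ := hb U hU
  exact ⟨n + 1, n.succ_pos, fun x hx => hn (Ideal.pow_le_pow_right n.le_succ hx)⟩

end IdealOfDefinition

section Admissible

variable {A : Type u} [CommRing A] [UniformSpace A] [IsUniformAddGroup A] [IsTopologicalRing A]

/-- In a complete separated linearly topologized ring, `1 + x` is a unit for `x` topologically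
nilpotent. -/
theorem isUnit_one_add [IsLinearTopology A A] [T2Space A] [CompleteSpace A] {x : A}
    (hx : IsTopologicallyNilpotent x) : IsUnit (1 + x) := by
  have hc : CauchySeq fun n => ∑ i ∈ Finset.range n, (-x) ^ i := by
    rw [cauchySeq_iff]
    intro V hV
    rw [uniformity_eq_comap_nhds_zero, Filter.mem_comap] at hV
    obtain ⟨U, hU, hUV⟩ := hV
    obtain ⟨W, hW, hWU⟩ := exists_open_ideal_subset hU
    obtain ⟨k, hk⟩ := exists_pow_mem_of_isOpen hx hW
    have hkey : ∀ n, k ≤ n → (∑ i ∈ Finset.range n, (-x) ^ i) - ∑ i ∈ Finset.range k, (-x) ^ i ∈ W := by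
      intro n hn
      rw [Finset.sum_range_sub_sum_range hn]
      refine W.sum_mem fun i hi => ?_
      rw [neg_pow]
      exact W.mul_mem_left _ (W.pow_mem_of_pow_mem hk (Finset.mem_filter.1 hi).2)
    refine ⟨k, fun i hi j hj => hUV (hWU ?_)⟩
    show _ - _ ∈ W
    rw [← sub_sub_sub_cancel_right _ _ (∑ i ∈ Finset.range k, (-x) ^ i)]
    exact sub_mem (hkey j hj) (hkey i hi)
  obtain ⟨L, hL⟩ := cauchySeq_tendsto_of_complete hc
  refine IsUnit.of_mul_eq_one L (tendsto_nhds_unique (hL.const_mul (1 + x)) ?_)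
  have h : (fun n => (1 + x) * ∑ i ∈ Finset.range n, (-x) ^ i) = fun n => 1 - (-x) ^ n := by
    funext n
    rw [show (1 + x) = 1 - (-x) by ring, mul_neg_geom_sum]
  rw [h]
  have h0 : Tendsto (fun n => (-x) ^ n) atTop (𝓝 0) := by
    have := IsTopologicallyNilpotent.mul_left (-1 : A) hx
    rw [neg_one_mul] at this
    exact this
  simpa using tendsto_const_nhds.sub h0

theorem le_jacobson_bot [IsLinearTopology A A] [T2Space A] [CompleteSpace A] {I : Ideal A}
    (hI : ∀ f ∈ I, IsTopologicallyNilpotent f) : I ≤ (⊥ : Ideal A).jacobson := fun x hx => by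
  rw [Ideal.mem_jacobson_bot]
  intro y
  rw [add_comm]
  exact isUnit_one_add (hI _ (I.mul_mem_right y hx))

end Admissible

section Taut

open LinTop

variable {B : Type v} [CommRing B] [TopologicalSpace B] [IsTopologicalRing B]

theorem mem_of_map_mem_closure {φ : A →+* B} (hφ : IsTautFFlat φ) {V : Ideal A}
    (hV : IsOpen (V : Set A)) {x : A} (hx : φ x ∈ (V.map φ).closure) : x ∈ V := by
  rw [← Ideal.Quotient.eq_zero_iff_mem]
  refine (hφ.2 V hV).injective ?_
  rw [map_zero]
  exact Ideal.Quotient.eq_zero_iff_mem.2 hx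

theorem le_of_map_le_closure {φ : A →+* B} (hφ : IsTautFFlat φ) {V W : Ideal A}
    (hV : IsOpen (V : Set A)) (h : W.map φ ≤ (V.map φ).closure) : W ≤ V :=
  fun _ hx => mem_of_map_mem_closure hφ hV (h (Ideal.mem_map_of_mem φ hx))

end Taut

section Completion

/-- The closure of `I ^ n` is `I ^ n` for a finitely generated `I` with small powers, in a complete
ring where these closures are open. -/
theorem isAdic_of_fg_of_closure {A : Type u} [CommRing A] [UniformSpace A] [IsUniformAddGroup A]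
    [IsTopologicalRing A] [IsLinearTopology A A] [T2Space A] [CompleteSpace A]
    (I : Ideal A) (hfg : I.FG) (hopen : ∀ n : ℕ, IsOpen (closure ((I ^ n : Ideal A) : Set A)))
    (hbasis : ∀ U ∈ 𝓝 (0 : A), ∃ n : ℕ, closure ((I ^ n : Ideal A) : Set A) ⊆ U) : IsAdic I := by
  suffices h : ∀ n, (I ^ n).closure = I ^ n by
    refine isAdic_iff.2 ⟨fun n => ?_, fun s hs => ?_⟩
    · rw [← h n]; exact hopen n
    · obtain ⟨n, hn⟩ := hbasis s hs
      exact ⟨n, subset_closure.trans hn⟩
  intro n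
  refine le_antisymm (fun x hx => ?_) (le_closure _)
  obtain ⟨r, a, ha⟩ := Submodule.fg_iff_exists_fin_generating_family.1 (hfg.pow (n := n))
  have hgen : ∀ j, ∀ e ∈ I ^ (n + j), ∃ z : Fin r → A, (∀ i, z i ∈ I ^ j) ∧ e = ∑ i, a i * z i := by
    intro j e he
    rw [pow_add] at he
    refine Submodule.mul_induction_on he (fun b hb w hw => ?_) (fun e e' he he' => ?_)
    · rw [← ha] at hb
      obtain ⟨c, rfl⟩ := (Submodule.mem_span_range_iff_exists_fun A).1 hb
      refine ⟨fun i => c i * w, fun i => Ideal.mul_mem_left _ _ hw, ?_⟩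
      rw [Finset.sum_mul]
      exact Finset.sum_congr rfl fun i _ => by simp only [smul_eq_mul]; ring
    · obtain ⟨z, hz, rfl⟩ := he
      obtain ⟨z', hz', rfl⟩ := he'
      exact ⟨z + z', fun i => add_mem (hz i) (hz' i), by simp [mul_add, Finset.sum_add_distrib]⟩
  have step : ∀ (k : ℕ) (y : Fin r → A), x - ∑ i, a i * y i ∈ (I ^ (n + k)).closure →
      ∃ z : Fin r → A, (∀ i, z i ∈ I ^ k) ∧
        x - ∑ i, a i * (y i + z i) ∈ (I ^ (n + k + 1)).closure := by
    intro k y hy
    obtain ⟨e, he, v, hv, hev⟩ := Submodule.mem_sup.1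
      ((mem_closure_iff _ _).1 hy (I ^ (n + k + 1)).closure (hopen (n + k + 1)))
    obtain ⟨z, hz, rfl⟩ := hgen k e he
    refine ⟨z, hz, ?_⟩
    simp only [mul_add, Finset.sum_add_distrib]
    rwa [← sub_sub, ← hev, add_sub_cancel_left]
  choose z hz hzx using step
  let E : ∀ k : ℕ, {y : Fin r → A // x - ∑ i, a i * y i ∈ (I ^ (n + k)).closure} := fun k =>
    Nat.rec ⟨0, by simpa using hx⟩ (fun j Ej => ⟨fun i => Ej.1 i + z j Ej.1 Ej.2 i, hzx j Ej.1 Ej.2⟩) k
  have hanti : ∀ {p q : ℕ}, p ≤ q → (I ^ q).closure ≤ (I ^ p).closure := fun h =>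
    closure_mono (Ideal.pow_le_pow_right h)
  choose L hL using fun i => exists_limit_of_step (fun k => (I ^ k).closure.toAddSubgroup)
    (fun p q h => hanti h) (fun k => isClosed_closure)
    (fun U hU => hbasis U hU) (fun k => (E k).1 i) (fun k => by
      show ((E k).1 i + z k (E k).1 (E k).2 i) - (E k).1 i ∈ (I ^ k).closure
      rw [add_sub_cancel_left]
      exact le_closure _ (hz k _ _ i))
  have hxL : x = ∑ i, a i * L i := by
    refine sub_eq_zero.1 ?_
    by_contra hne
    obtain ⟨U, hU, hxU⟩ : ∃ U ∈ 𝓝 (0 : A), x - ∑ i, a i * L i ∉ U :=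
      ⟨{x - ∑ i, a i * L i}ᶜ, isOpen_compl_singleton.mem_nhds fun h => hne h.symm, fun h => h rfl⟩
    obtain ⟨k, hk⟩ := hbasis U hU
    refine hxU (hk ?_)
    have h1 : x - ∑ i, a i * L i =
        (x - ∑ i, a i * (E k).1 i) - ∑ i, a i * (L i - (E k).1 i) := by
      simp [mul_sub, Finset.sum_sub_distrib]
    show x - ∑ i, a i * L i ∈ (I ^ k).closure
    rw [h1]
    exact sub_mem (hanti (by omega) (E k).2)
      (Submodule.sum_mem _ fun i _ => Ideal.mul_mem_left _ _ (hL i k))
  rw [hxL, ← ha]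
  exact Submodule.sum_mem _ fun i _ => Ideal.mul_mem_right _ _ (Submodule.subset_span ⟨i, rfl⟩)

end Completion

end Groth.Agent.AdicTop
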