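import Groth.Agent.AdicTop.Basic
import Mathlib.Topology.Algebra.UniformRing
import Mathlib.Topology.Algebra.GroupCompletion

/-!
# Completion of a linearly topologized ring; weakly preadic rings
-/

namespace Groth.Agent.AdicTop

open Filter Topology UniformSpace LinTop

universe u v

section Completion

variable {A : Type u} [CommRing A] [UniformSpace A] [IsUniformAddGroup A] [IsTopologicalRing A]

theorem closure_image_eq (V : Ideal A) :
    closure (((↑) : A → Completion A) '' (V : Set A)) =
      closure ((V.map (Completion.coeRingHom : A →+* Completion A) : Ideal (Completion A)) :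
        Set (Completion A)) := by
  set φ : A →+* Completion A := Completion.coeRingHom
  refine subset_antisymm (_root_.closure_mono ?_) (closure_minimal ?_ isClosed_closure)
  · rintro _ ⟨v, hv, rfl⟩
    exact Ideal.mem_map_of_mem φ hv
  set G : AddSubgroup (Completion A) := (V.toAddSubgroup.map φ.toAddMonoidHom).topologicalClosure
    with hG
  have hGcoe : (G : Set (Completion A)) = closure (((↑) : A → Completion A) '' (V : Set A)) := rfl
  have hmul : ∀ c x : Completion A, x ∈ G → c * x ∈ G := by
    intro c
    induction c using Completion.induction_on with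
    | hp =>
      simp only [Set.setOf_forall]
      refine isClosed_iInter fun x => isClosed_iInter fun _ => ?_
      exact IsClosed.preimage (continuous_id.mul continuous_const) isClosed_closure
    | ih a =>
      intro x hx
      refine map_mem_closure (continuous_const.mul continuous_id) hx ?_
      rintro _ ⟨v, hv, rfl⟩
      exact ⟨a * v, V.mul_mem_left a hv, show φ (a * v) = (a : Completion A) * φ v by rw [map_mul]; rfl⟩
  let G' : Ideal (Completion A) :=
    { G.toAddSubmonoid with smul_mem' := fun c x hx => hmul c x hx }
  rw [← hGcoe]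
  intro x hx
  refine (?_ : V.map φ ≤ G') hx
  exact Ideal.map_le_iff_le_comap.2 fun v hv => subset_closure ⟨v, hv, rfl⟩

theorem isOpen_closure_map_completion {V : Ideal A} (hV : IsOpen (V : Set A)) :
    IsOpen (((V.map (Completion.coeRingHom : A →+* Completion A)).closure : Ideal (Completion A)) :
      Set (Completion A)) := by
  refine AddSubgroup.isOpen_of_mem_nhds (g := 0)
    (V.map (Completion.coeRingHom : A →+* Completion A)).closure.toAddSubgroup ?_
  show closure _ ∈ _
  rw [← closure_image_eq, ← Completion.coe_zero]
  exact Completion.isDenseInducing_coe.closure_image_mem_nhds (hV.mem_nhds V.zero_mem)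

theorem exists_closure_map_completion_subset [IsLinearTopology A A] {U : Set (Completion A)}
    (hU : U ∈ 𝓝 (0 : Completion A)) : ∃ V : Ideal A, IsOpen (V : Set A) ∧
      closure ((V.map (Completion.coeRingHom : A →+* Completion A) : Ideal _) : Set (Completion A))
        ⊆ U := by
  obtain ⟨C, ⟨hC, hCc⟩, hCU⟩ := (closed_nhds_basis (0 : Completion A)).mem_iff.1 hU
  have hC0 : C ∈ 𝓝 ((0 : A) : Completion A) := by rw [Completion.coe_zero]; exact hC
  obtain ⟨V, hV, hVC⟩ := exists_open_ideal_subset
    ((Completion.continuous_coe A).continuousAt.preimage_mem_nhds hC0)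
  refine ⟨V, hV, ?_⟩
  rw [← closure_image_eq]
  exact (closure_minimal (Set.image_subset_iff.2 hVC) hCc).trans hCU

theorem isLinearTopology_completion [IsLinearTopology A A] :
    IsLinearTopology (Completion A) (Completion A) := by
  refine isLinearTopology_iff_hasBasis_open_ideal.2 ⟨fun U => ⟨fun hU => ?_, fun ⟨I, hI, hIU⟩ =>
    mem_of_superset (mem_nhds_of_isOpen hI) hIU⟩⟩
  obtain ⟨V, hV, hVU⟩ := exists_closure_map_completion_subset hU
  exact ⟨_, isOpen_closure_map_completion hV, hVU⟩

theorem isTaut_completion [IsLinearTopology A A] :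
    IsTaut (Completion.coeRingHom : A →+* Completion A) :=
  ⟨Completion.continuous_coe A, fun _ hV => isOpen_closure_map_completion hV,
    fun _ hU => exists_closure_map_completion_subset hU⟩

end Completion

section Taut

variable {A : Type u} [CommRing A] [TopologicalSpace A] [IsTopologicalRing A]
variable {B : Type v} [CommRing B] [TopologicalSpace B] [IsTopologicalRing B]

theorem isWeaklyPreadic_of_isTaut [IsLinearTopology B B] {φ : A →+* B} (hφ : IsTaut φ)
    (hA : IsWeaklyPreadic A) : IsWeaklyPreadic B := by
  obtain ⟨hlin, I, hopen, hbasis⟩ := hA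
  refine ⟨inferInstance, I.map φ, fun n => ?_, fun U hU => ?_⟩
  · refine isOpen_of_le (I := ((I ^ n).closure.map φ).closure) (J := ((I.map φ) ^ n).closure) ?_
      (hφ.2.1 _ (hopen n))
    rw [← Ideal.map_pow]
    exact closure_le_of_isClosed isClosed_closure (map_closure_le φ hφ.1 _)
  · obtain ⟨V, hV, hVU⟩ := hφ.2.2 U hU
    obtain ⟨n, hn⟩ := hbasis _ (mem_nhds_of_isOpen hV)
    refine ⟨n, fun x hx => hVU ?_⟩
    rw [← Ideal.map_pow] at hx
    exact closure_mono (Ideal.map_mono fun y hy => hn (subset_closure hy)) hx

theorem isOpen_closure_pow_of_isWeaklyPreadic (hA : IsWeaklyPreadic A) {J : Ideal A}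
    (hJ : IsOpen (J : Set A)) (n : ℕ) : IsOpen ((J ^ n).closure : Set A) := by
  obtain ⟨_, I, hopen, hbasis⟩ := hA
  obtain ⟨m, hm⟩ := hbasis _ (mem_nhds_of_isOpen hJ)
  refine isOpen_of_le (I := (I ^ (m * n)).closure) ?_ (hopen _)
  rw [pow_mul]
  exact closure_mono (Ideal.pow_right_mono (fun y hy => hm (subset_closure hy)) n)

end Taut

end Groth.Agent.AdicTop
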